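import Cfsg.Agent.Lib.GLNormalRank.Model

/-!
The normal 2-rank of a Sylow 2-subgroup of `GL n q`, `q` odd.
-/

set_option autoImplicit false

open Matrix

namespace Cfsg.Agent.Lib.GLNormalRank

open Cfsg.Agent.Lib.SLOddIndex Cfsg.Agent.Lib.SignDiag.Basic

/-- A normal elementary abelian subgroup of a subgroup of full 2-part is seen in every Sylow 2-subgroup. -/
theorem lower {G D A : Type*} [Group G] [Finite G] [Group D] [Finite D] [CommGroup A] [Finite A]
    (f : D →* G) (hf : Function.Injective f)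
    (hv : padicValNat 2 (Nat.card D) = padicValNat 2 (Nat.card G))
    (ε : A →* D) (hε : Function.Injective ε) (hN : ε.range.Normal) (hA : ∀ a : A, a ^ 2 = 1)
    (S : Sylow 2 G) : ∃ E : Subgroup ↥(S : Subgroup G), E.Normal ∧ Cfsg.IsElementaryAbelian 2 E ∧
      Nat.card A ≤ Nat.card ↥E := by
  have : Fact (Nat.Prime 2) := ⟨Nat.prime_two⟩
  obtain ⟨P⟩ : Nonempty (Sylow 2 D) := inferInstance
  have hpN : IsPGroup 2 ε.range := by
    rintro ⟨_, a, rfl⟩
    exact ⟨1, Subtype.ext (by simp [← map_pow, hA])⟩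
  have hle : ε.range ≤ (P : Subgroup D) := by
    have hsup : IsPGroup 2 ↥(ε.range ⊔ (P : Subgroup D)) := hpN.to_sup_of_normal_left P.2
    calc ε.range ≤ ε.range ⊔ (P : Subgroup D) := le_sup_left
      _ = P := P.3 hsup le_sup_right
  let Q : Sylow 2 G := Sylow.ofCard ((P : Subgroup D).map f) (by
    rw [Nat.card_congr ((P : Subgroup D).equivMapOfInjective f hf).symm.toEquiv, P.card_eq_multiplicity,
      Nat.factorization_def _ Nat.prime_two, Nat.factorization_def _ Nat.prime_two, hv])
  obtain ⟨g, hg⟩ := MulAction.exists_smul_eq G Q S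
  have hmem : ∀ x : ↥(P : Subgroup D), g * f x * g⁻¹ ∈ (S : Subgroup G) := by
    intro x
    rw [← hg]
    exact Subgroup.mem_map.2 ⟨f x, Subgroup.mem_map_of_mem f x.2, rfl⟩
  let θ : ↥(P : Subgroup D) →* ↥(S : Subgroup G) :=
    MonoidHom.codRestrict (((MulAut.conj g).toMonoidHom.comp f).comp (P : Subgroup D).subtype) _ hmem
  have hθ : Function.Injective θ := fun x y h =>
    Subtype.ext (hf (by simpa [θ] using congrArg Subtype.val h))
  have hsurj : Function.Surjective θ := (Nat.bijective_iff_injective_and_card θ).2 ⟨hθ, by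
    rw [P.card_eq_multiplicity, S.card_eq_multiplicity, Nat.factorization_def _ Nat.prime_two,
      Nat.factorization_def _ Nat.prime_two, hv]⟩ |>.surjective
  have hNP : (ε.range.subgroupOf (P : Subgroup D)).Normal := hN.subgroupOf _
  refine ⟨(ε.range.subgroupOf (P : Subgroup D)).map θ, hNP.map θ hsurj, ⟨⟨⟨?_⟩⟩, ?_⟩, ?_⟩
  · rintro ⟨_, x, ⟨a, ha⟩, rfl⟩ ⟨_, y, ⟨b, hb⟩, rfl⟩
    refine Subtype.ext ?_
    change θ x * θ y = θ y * θ x
    rw [← map_mul, ← map_mul]
    congr 1
    refine Subtype.ext ?_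
    change ((P : Subgroup D).subtype x : D) * (P : Subgroup D).subtype y = _
    rw [← ha, ← hb, ← map_mul, mul_comm, map_mul, ha, hb]
    rfl
  · rintro _ ⟨x, ⟨a, ha⟩, rfl⟩
    rw [← map_pow, show x ^ 2 = 1 from Subtype.ext (by
      rw [Subgroup.coe_pow, Subgroup.coe_one, show (x : D) = ε a from ha.symm, ← map_pow, hA, map_one]),
      map_one]
  · rw [Nat.card_congr (Subgroup.equivMapOfInjective _ θ hθ).symm.toEquiv,
      Nat.card_congr (Subgroup.subgroupOfEquivOfLe hle).toEquiv,
      ← Nat.card_congr (MonoidHom.ofInjective hε).toEquiv]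

variable {F : Type*} [Field F] [Fintype F]

/-- Reindexing general linear groups. -/
def reindexGL {ι ι' : Type*} [Fintype ι] [DecidableEq ι] [Fintype ι'] [DecidableEq ι'] (e : ι ≃ ι') :
    GL ι F ≃* GL ι' F :=
  Units.mapEquiv (Matrix.reindexAlgEquiv F F e).toMulEquiv

theorem val_GL (hodd : Fintype.card F % 2 = 1) (ι : Type*) [Fintype ι] [DecidableEq ι] :
    padicValNat 2 (Nat.card (GL ι F)) = V (Fintype.card F) (Fintype.card ι) := by
  have := Fintype.one_lt_card (α := F)
  rw [card_GL_eq, V_eq (Nat.odd_iff.2 hodd) (by omega)]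

/-- The existence half. -/
theorem exists_rank (hodd : Fintype.card F % 2 = 1) {n m b r : ℕ} (hb : 0 < b) (hr : r ≤ 1)
    (hn : m * b + r = n)
    (hV : V (Fintype.card F) n = m * V (Fintype.card F) b + padicValNat 2 m.factorial + V (Fintype.card F) r)
    (S : Sylow 2 (GL (Fin n) F)) :
    ∃ E : Subgroup ↥(S : Subgroup (GL (Fin n) F)), E.Normal ∧ Cfsg.IsElementaryAbelian 2 E ∧
      2 ^ (m + r) ≤ Nat.card ↥E := by
  have h2 : (2 : F) ≠ 0 := two_ne_zero_of_odd (Nat.odd_iff.2 hodd)
  have : Nonempty (Fin b) := ⟨⟨0, hb⟩⟩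
  have : Subsingleton (Fin r) := Fin.subsingleton_iff_le_one.2 hr
  let e : (Fin m × Fin b) ⊕ Fin r ≃ Fin n := Fintype.equivFinOfCardEq (by
    simp [hn])
  let f := (reindexGL (F := F) e).toMonoidHom.comp (emb (κ := Fin m) (β := Fin b) (γ := Fin r))
  obtain ⟨E, h1, h3, h4⟩ := lower f ((reindexGL (F := F) e).injective.comp emb_injective)
    (by rw [val_card_model hodd, val_GL hodd]; simp only [Fintype.card_fin]; exact hV.symm)
    (signs (F := F) (κ := Fin m) (β := Fin b) (γ := Fin r)) (signs_injective h2) signs_normal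
    (fun a => Prod.ext (funext fun i => Int.units_sq _) (funext fun i => Int.units_sq _)) S
  refine ⟨E, h1, h3, le_trans (le_of_eq ?_) h4⟩
  rw [Nat.card_prod, Nat.card_fun, Nat.card_fun, Nat.card_eq_fintype_card (α := ℤˣ), Fintype.card_units_int,
    Nat.card_eq_fintype_card, Nat.card_eq_fintype_card, Fintype.card_fin, Fintype.card_fin, pow_add]

variable {ι : Type*} [Fintype ι] [DecidableEq ι]

/-- A commutative subgroup of exponent two, diagonalised. -/
theorem exists_signs (h2 : (2 : F) ≠ 0) (S : Sylow 2 (GL ι F)) (E : Subgroup ↥(S : Subgroup (GL ι F)))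
    (hE : Cfsg.IsElementaryAbelian 2 E) :
    ∃ (Q : GL ι F) (χ : ι → ↥E → F), (∀ a : ↥E, (((a : ↥(S : Subgroup (GL ι F))) : GL ι F) : Matrix ι ι F) *
        (Q : Matrix ι ι F) = (Q : Matrix ι ι F) * Matrix.diagonal fun i => χ i a) ∧
      Nat.card ↥E ≤ 2 ^ Nat.card (Set.range χ) ∧
      Nat.card ↥E ≤ 2 ^ Fintype.card ι := by
  classical
  let _ : CommGroup ↥E := { (inferInstance : Group ↥E) with mul_comm := fun a b => hE.1.is_comm.comm a b }
  have : Fintype ↥E := Fintype.ofFinite _
  let ρ : ↥E →* GL ι F := (S : Subgroup (GL ι F)).subtype.comp E.subtype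
  obtain ⟨Q, χ, hχ, hd⟩ := exists_diagonal ρ h2
    (fun a => Subtype.ext (by simpa [pow_two] using hE.2 a a.2))
  have hρ : Function.Injective ρ := fun x y h => Subtype.ext (Subtype.ext h)
  let Φ : ↥E → (↥(Set.range χ) → Bool) := fun a c => decide (c.1 a = 1)
  have hΦ : Function.Injective Φ := by
    intro a b h
    exact eq_of_signs ρ hρ hd fun i => sign_unique h2 (hχ i a) (hχ i b)
      (by simpa [Φ] using congrFun h ⟨χ i, ⟨i, rfl⟩⟩)
  have h := Nat.card_le_card_of_injective Φ hΦ
  rw [Nat.card_fun, Nat.card_eq_fintype_card (α := Bool), Fintype.card_bool] at h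
  exact ⟨Q, χ, hd, h, h.trans (Nat.pow_le_pow_right (by norm_num)
    (le_of_le_of_eq (Nat.card_le_card_of_surjective _ Set.rangeFactorization_surjective)
      Nat.card_eq_fintype_card))⟩

/-- For `q ≡ 3 (mod 4)` at most one coordinate is alone in its weight. -/
theorem card_singletons (hq : Fintype.card F % 4 = 3) (S : Sylow 2 (GL ι F))
    (E : Subgroup ↥(S : Subgroup (GL ι F))) (hN : E.Normal) (Q : GL ι F) (χ : ι → ↥E → F)
    (hd : ∀ a : ↥E, (((a : ↥(S : Subgroup (GL ι F))) : GL ι F) : Matrix ι ι F) * (Q : Matrix ι ι F) =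
      (Q : Matrix ι ι F) * Matrix.diagonal fun i => χ i a) :
    Nat.card {i : ι // ∀ j, χ j = χ i → j = i} ≤ 1 := by
  classical
  have : Fact (Nat.Prime 2) := ⟨Nat.prime_two⟩
  have hodd : Fintype.card F % 2 = 1 := by omega
  have hq3 : 3 ≤ Fintype.card F := by omega
  by_contra hk
  push Not at hk
  set P := fun i : ι => ∀ j, χ j = χ i → j = i with hP
  let e : ι ≃ ({i // P i} × Unit) ⊕ {i // ¬ P i} :=
    ((Equiv.prodUnique _ Unit).sumCongr (Equiv.refl _)).trans (Equiv.sumCompl P) |>.symm
  let ψ : GL ι F →* GL (({i // P i} × Unit) ⊕ {i // ¬ P i}) F :=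
    (reindexGL (F := F) e).toMonoidHom.comp (MulAut.conj Q⁻¹).toMonoidHom
  have hψ : Function.Injective ψ := (reindexGL (F := F) e).injective.comp (MulAut.conj Q⁻¹).injective
  have hsub : (S : Subgroup (GL ι F)).map ψ ≤
      (emb (F := F) (κ := {i // P i}) (β := Unit) (γ := {i // ¬ P i})).range := by
    rintro _ ⟨s, hs, rfl⟩
    set M : Matrix ι ι F := ((MulAut.conj Q⁻¹ s : GL ι F) : Matrix ι ι F) with hM
    set N : Matrix ι ι F := (((MulAut.conj Q⁻¹ s)⁻¹ : GL ι F) : Matrix ι ι F) with hNdef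
    have hMN : M * N = 1 := by rw [hM, hNdef, ← Units.val_mul, mul_inv_cancel, Units.val_one]
    have hNM : N * M = 1 := by rw [hM, hNdef, ← Units.val_mul, inv_mul_cancel, Units.val_one]
    have hdc : ∀ a : ↥E, ((MulAut.conj Q⁻¹ ((a : ↥(S : Subgroup (GL ι F))) : GL ι F) : GL ι F) : Matrix ι ι F) =
        Matrix.diagonal fun i => χ i a := by
      intro a
      rw [MulAut.conj_apply, inv_inv, mul_assoc, Units.val_mul, Units.val_mul, hd, ← Matrix.mul_assoc,
        Units.inv_mul, Matrix.one_mul]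
    have hrel : ∀ i j, M i j ≠ 0 → ∀ i' j', M i' j' ≠ 0 → (χ i = χ i' ↔ χ j = χ j') := by
      intro i j h i' j' h'
      have hl : ∀ a : ↥E, ∃ b : ↥E, (Matrix.diagonal fun i => χ i b) * M = M * Matrix.diagonal fun i => χ i a := by
        intro a
        refine ⟨⟨_, hN.conj_mem _ a.2 ⟨s, hs⟩⟩, ?_⟩
        rw [← hdc, ← hdc, hM, ← Units.val_mul, ← Units.val_mul, ← map_mul, ← map_mul]
        simp
      have hr : ∀ a : ↥E, ∃ b : ↥E, (Matrix.diagonal fun i => χ i a) * M = M * Matrix.diagonal fun i => χ i b := by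
        intro a
        refine ⟨⟨_, hN.conj_mem _ a.2 ⟨s, hs⟩⁻¹⟩, ?_⟩
        rw [← hdc, ← hdc, hM, ← Units.val_mul, ← Units.val_mul, ← map_mul, ← map_mul]
        simp [mul_assoc]
      have hent : ∀ {a b : ↥E}, (Matrix.diagonal fun i => χ i b) * M = M * (Matrix.diagonal fun i => χ i a) →
          ∀ {x y}, M x y ≠ 0 → χ x b = χ y a := by
        intro a b hab x y hxy
        have := congrFun (congrFun hab x) y
        rw [Matrix.diagonal_mul, Matrix.mul_diagonal, mul_comm] at this
        exact mul_left_cancel₀ hxy this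
      constructor
      · intro hi
        funext a
        obtain ⟨b, hb⟩ := hl a
        rw [← hent hb h, ← hent hb h', hi]
      · intro hj
        funext a
        obtain ⟨b, hb⟩ := hr a
        rw [hent hb h, hent hb h', hj]
    have hcol : ∀ j, ∃ i, M i j ≠ 0 := by
      intro j
      by_contra hc
      push Not at hc
      have := congrFun (congrFun hNM j) j
      simp [Matrix.mul_apply, hc] at this
    have hrow : ∀ i, ∃ j, M i j ≠ 0 := by
      intro i
      by_contra hc
      push Not at hc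
      have := congrFun (congrFun hMN i) i
      simp [Matrix.mul_apply, hc] at this
    have hsup : ∀ i j, M i j ≠ 0 → P j → P i ∧ ∀ j', M i j' ≠ 0 → j' = j := by
      intro i j h hj
      have honly : ∀ i', χ i' = χ i → ∀ j', j' ≠ j → M i' j' = 0 := fun i' hi' j' hne => by
        by_contra h'
        exact hne (hj j' ((hrel i' j' h' i j h).1 hi'))
      refine ⟨fun i' hi' => ?_, fun j' h' => by_contra fun hne => h' (honly i rfl j' hne)⟩
      by_contra hne
      have e1 := congrFun (congrFun hMN i) i'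
      have e2 := congrFun (congrFun hMN i') i'
      rw [Matrix.mul_apply, Fintype.sum_eq_single j (fun x hx => by rw [honly i rfl x hx, zero_mul]),
        Matrix.one_apply_ne (Ne.symm hne)] at e1
      rw [Matrix.mul_apply, Fintype.sum_eq_single j (fun x hx => by rw [honly i' hi' x hx, zero_mul]),
        Matrix.one_apply_eq, (mul_eq_zero.1 e1).resolve_left h, mul_zero] at e2
      exact zero_ne_one e2
    have hsup' : ∀ i j, M i j ≠ 0 → P i → P j ∧ ∀ i', M i' j ≠ 0 → i' = i := by
      intro i j h hi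
      have honly : ∀ j', χ j' = χ j → ∀ i', i' ≠ i → M i' j' = 0 := fun j' hj' i' hne => by
        by_contra h'
        exact hne (hi i' ((hrel i' j' h' i j h).2 hj'))
      refine ⟨fun j' hj' => ?_, fun i' h' => by_contra fun hne => h' (honly j rfl i' hne)⟩
      by_contra hne
      have e1 := congrFun (congrFun hNM j') j
      have e2 := congrFun (congrFun hNM j') j'
      rw [Matrix.mul_apply, Fintype.sum_eq_single i (fun x hx => by rw [honly j rfl x hx, mul_zero]),
        Matrix.one_apply_ne hne] at e1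
      rw [Matrix.mul_apply, Fintype.sum_eq_single i (fun x hx => by rw [honly j' hj' x hx, mul_zero]),
        Matrix.one_apply_eq, (mul_eq_zero.1 e1).resolve_right h, zero_mul] at e2
      exact zero_ne_one e2
    have hzero1 : ∀ i j, P i → ¬ P j → M i j = 0 := fun i j hi hj =>
      by_contra fun h => hj (hsup' i j h hi).1
    have hzero2 : ∀ i j, ¬ P i → P j → M i j = 0 := fun i j hi hj =>
      by_contra fun h => hi (hsup i j h hj).1
    choose τ hτ using fun j : {j // P j} => hcol j
    let π : Equiv.Perm {j // P j} := Equiv.ofBijective (fun j => ⟨τ j, (hsup _ _ (hτ j) j.2).1⟩)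
      (Finite.injective_iff_bijective.1 fun x y h => by
        have h' : τ x = τ y := congrArg Subtype.val h
        exact Subtype.ext ((hsup _ _ (hτ y) y.2).2 _ (h' ▸ hτ x)))
    have hπ : ∀ j : {j // P j}, M (π j) j ≠ 0 := hτ
    let g : {j // P j} → GL Unit F := fun i =>
      Matrix.GeneralLinearGroup.mkOfDetNeZero (Matrix.of fun _ _ => M i (π.symm i)) (by
        rw [Matrix.det_unique, Matrix.of_apply]
        simpa using hπ (π.symm i))
    let C : GL {i // ¬ P i} F :=
      { val := M.submatrix Subtype.val Subtype.val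
        inv := N.submatrix Subtype.val Subtype.val
        val_inv := by
          ext i l
          have := congrFun (congrFun hMN i.1) l.1
          rw [Matrix.mul_apply, ← Fintype.sum_subtype_add_sum_subtype (fun x => P x),
            Finset.sum_eq_zero (fun x _ => by rw [hzero2 _ _ i.2 x.2, zero_mul]), zero_add] at this
          rw [Matrix.mul_apply]
          simp only [Matrix.submatrix_apply]
          rw [this]
          simp [Matrix.one_apply, Subtype.ext_iff]
        inv_val := by
          ext i l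
          have := congrFun (congrFun hNM i.1) l.1
          rw [Matrix.mul_apply, ← Fintype.sum_subtype_add_sum_subtype (fun x => P x),
            Finset.sum_eq_zero (fun x _ => by rw [hzero1 _ _ x.2 l.2, mul_zero]), zero_add] at this
          rw [Matrix.mul_apply]
          simp only [Matrix.submatrix_apply]
          rw [this]
          simp [Matrix.one_apply, Subtype.ext_iff] }
    refine ⟨(⟨g, π⟩, C), Units.ext ?_⟩
    rw [emb_val]
    ext (⟨i, u⟩ | i) (⟨j, w⟩ | j)
    · change (if i = π j then M i (π.symm i) else 0) = M i j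
      split_ifs with h
      · rw [h, Equiv.symm_apply_apply]
      · refine (by_contra fun hne => h ?_ : M i j = 0).symm
        exact Subtype.ext ((hsup' _ _ (hπ j) (π j).2).2 _ hne)
    · exact (hzero1 _ _ i.2 j.2).symm
    · exact (hzero2 _ _ i.2 j.2).symm
    · rfl
  have hdvd := (Subgroup.card_dvd_of_le hsub).trans (Subgroup.card_range_dvd
    (emb (F := F) (κ := {i // P i}) (β := Unit) (γ := {i // ¬ P i})))
  rw [← Nat.card_congr ((S : Subgroup (GL ι F)).equivMapOfInjective ψ hψ).toEquiv, S.card_eq_multiplicity,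
    Nat.factorization_def _ Nat.prime_two, padicValNat_dvd_iff_le Nat.card_pos.ne', val_GL hodd,
    val_card_model hodd, Fintype.card_unit] at hdvd
  have hV1 : V (Fintype.card F) 1 = 1 := by
    simp [V, (w_one_of_three_mod_four hq3 hq).1]
  rw [hV1, mul_one, Fintype.card_subtype_compl] at hdvd
  rw [Nat.card_eq_fintype_card] at hk
  have hle : Fintype.card {i // P i} ≤ Fintype.card ι := Fintype.card_subtype_le _
  have := V_excess hq3 hq (a := Fintype.card ι - Fintype.card {i // P i}) hk
  rw [Nat.sub_add_cancel hle] at this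
  simp only [← Nat.card_eq_fintype_card] at this hdvd hle hk
  have hPP : Nat.card (Subtype P) = Nat.card {i // P i} := rfl
  rw [hPP] at *
  omega

theorem upper_three (hq : Fintype.card F % 4 = 3) {n : ℕ} (S : Sylow 2 (GL (Fin n) F))
    (E : Subgroup ↥(S : Subgroup (GL (Fin n) F))) (hN : E.Normal) (hE : Cfsg.IsElementaryAbelian 2 E) :
    Nat.card ↥E ≤ 2 ^ ((n + 1) / 2) := by
  classical
  have h2 : (2 : F) ≠ 0 := two_ne_zero_of_odd (Nat.odd_iff.2 (by omega))
  obtain ⟨Q, χ, hd, hc, -⟩ := exists_signs h2 S E hE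
  refine hc.trans (Nat.pow_le_pow_right (by norm_num) ?_)
  rw [Nat.card_coe_set_eq, ← Set.image_univ, ← Finset.coe_univ, ← Finset.coe_image, Set.ncard_coe_finset]
  have h1 := card_singletons hq S E hN Q χ hd
  rw [Nat.card_eq_fintype_card, Fintype.card_subtype] at h1
  have hsum : ∑ c ∈ Finset.univ.image χ, (Finset.univ.filter fun i => χ i = c).card = n := by
    rw [← Finset.card_eq_sum_card_image, Finset.card_univ, Fintype.card_fin]
  have hone : ((Finset.univ.image χ).filter fun c => (Finset.univ.filter fun i => χ i = c).card = 1).card ≤ 1 := by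
    refine le_trans (le_trans (Finset.card_le_card ?_) (Finset.card_image_le (f := χ))) h1
    intro c hc
    obtain ⟨hci, hc1⟩ := Finset.mem_filter.1 hc
    obtain ⟨i, -, rfl⟩ := Finset.mem_image.1 hci
    refine Finset.mem_image.2 ⟨i, Finset.mem_filter.2 ⟨Finset.mem_univ _, fun j hj => ?_⟩, rfl⟩
    exact Finset.card_le_one.1 hc1.le j (by simp [hj]) i (by simp)
  have hb : ∑ c ∈ Finset.univ.image χ, 2 ≤ ∑ c ∈ Finset.univ.image χ,
      ((Finset.univ.filter fun i => χ i = c).card +
        if (Finset.univ.filter fun i => χ i = c).card = 1 then 1 else 0) := by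
    refine Finset.sum_le_sum fun c hc => ?_
    obtain ⟨i, -, rfl⟩ := Finset.mem_image.1 hc
    have : 0 < (Finset.univ.filter fun j => χ j = χ i).card := Finset.card_pos.2 ⟨i, by simp⟩
    split_ifs <;> omega
  rw [Finset.sum_add_distrib, hsum, Finset.sum_const, smul_eq_mul, ← Finset.card_filter] at hb
  omega

theorem upper_any (hodd : Fintype.card F % 2 = 1) {n : ℕ} (S : Sylow 2 (GL (Fin n) F))
    (E : Subgroup ↥(S : Subgroup (GL (Fin n) F))) (hE : Cfsg.IsElementaryAbelian 2 E) :
    Nat.card ↥E ≤ 2 ^ n := by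
  obtain ⟨Q, χ, -, -, hc⟩ := exists_signs (two_ne_zero_of_odd (Nat.odd_iff.2 hodd)) S E hE
  simpa using hc

theorem exists_one (hq : Fintype.card F % 4 = 1) {n : ℕ} (S : Sylow 2 (GL (Fin n) F)) :
    ∃ E : Subgroup ↥(S : Subgroup (GL (Fin n) F)), E.Normal ∧ Cfsg.IsElementaryAbelian 2 E ∧
      2 ^ n ≤ Nat.card ↥E := by
  have := Fintype.one_lt_card (α := F)
  refine exists_rank (by omega) (m := n) (b := 1) (r := 0) one_pos zero_le_one (by simp) ?_ S
  rw [V_one (by omega) hq n]
  simp [V]

theorem exists_three (hq : Fintype.card F % 4 = 3) {n : ℕ} (S : Sylow 2 (GL (Fin n) F)) :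
    ∃ E : Subgroup ↥(S : Subgroup (GL (Fin n) F)), E.Normal ∧ Cfsg.IsElementaryAbelian 2 E ∧
      2 ^ ((n + 1) / 2) ≤ Nat.card ↥E := by
  rw [show (n + 1) / 2 = n / 2 + n % 2 by omega]
  refine exists_rank (by omega) (m := n / 2) (b := 2) (r := n % 2) two_pos (by omega) (by omega) ?_ S
  have hq3 : 3 ≤ Fintype.card F := by omega
  rcases Nat.even_or_odd n with ⟨m, rfl⟩ | ⟨m, rfl⟩
  · rw [show (m + m) / 2 = m by omega, show (m + m) % 2 = 0 by omega, ← two_mul, V_three hq3 hq]
    simp [V]
  · rw [show (2 * m + 1) / 2 = m by omega, show (2 * m + 1) % 2 = 1 by omega, V_two_mul_succ hq3 hq,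
      V_three hq3 hq]
    simp [V, (w_one_of_three_mod_four hq3 hq).1]

end Cfsg.Agent.Lib.GLNormalRank
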