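import Cfsg.Agent.Lib.SLOddIndex.TwoPart
import Mathlib

/-!
The `2`-part of the order of `GL n q`, `q` odd, in closed form.
-/

set_option autoImplicit false

namespace Cfsg.Agent.Lib.GLNormalRank

open Cfsg.Agent.Lib.SLOddIndex

variable {q : ℕ}

/-- The exponent of `2` in the order of `GL n q`. -/
def V (q n : ℕ) : ℕ := ∑ j ∈ Finset.range n, padicValNat 2 (q ^ (j + 1) - 1)

theorem V_eq (hq : Odd q) (hq3 : 3 ≤ q) (n : ℕ) : padicValNat 2 (glOrder q n) = V q n :=
  glOrder_val hq hq3 n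

theorem w_odd (hq : Odd q) (hq3 : 3 ≤ q) {i : ℕ} (hi : Odd i) :
    padicValNat 2 (q ^ i - 1) = padicValNat 2 (q - 1) := by
  have := val_geom hq hq3 (j := 0) hi
  simpa using this

theorem w_pow (hq : Odd q) (hq3 : 3 ≤ q) : ∀ j : ℕ,
    padicValNat 2 (q ^ 2 ^ (j + 1) - 1) = padicValNat 2 (q ^ 2 - 1) + j := by
  intro j
  induction j with
  | zero => simp
  | succ j ih =>
    have := val_double hq hq3 (k := j + 1) (by omega)
    rw [show (2 : ℕ) ^ (j + 1) + 2 ^ (j + 1) = 2 ^ (j + 1 + 1) by ring] at this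
    rw [this, ih, add_assoc]

theorem w_even (hq : Odd q) (hq3 : 3 ≤ q) {m : ℕ} (hm : m ≠ 0) :
    padicValNat 2 (q ^ (2 * m) - 1) = padicValNat 2 (q ^ 2 - 1) + padicValNat 2 m := by
  have : Fact (Nat.Prime 2) := ⟨Nat.prime_two⟩
  obtain ⟨j, t, ht, rfl⟩ := Nat.exists_eq_two_pow_mul_odd hm
  rw [← mul_assoc, ← pow_succ', val_geom hq hq3 ht, w_pow hq hq3,
    padicValNat.mul (by positivity) ht.pos.ne', padicValNat.prime_pow,
    padicValNat.eq_zero_of_not_dvd (Nat.two_dvd_ne_zero.2 (Nat.odd_iff.1 ht)), add_zero]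

theorem w_one_of_one_mod_four (hq3 : 3 ≤ q) (h : q % 4 = 1) :
    padicValNat 2 (q ^ 2 - 1) = padicValNat 2 (q - 1) + 1 := by
  have : Fact (Nat.Prime 2) := ⟨Nat.prime_two⟩
  have h1 : q ^ 2 - 1 = (q - 1) * (q + 1) := by
    rw [mul_comm, ← Nat.sq_sub_sq, one_pow]
  rw [h1, padicValNat.mul (by omega) (by omega)]
  congr 1
  obtain ⟨c, hc⟩ : ∃ c, q + 1 = 2 * c := ⟨(q + 1) / 2, by omega⟩
  rw [hc, padicValNat.mul (by norm_num) (by omega), padicValNat.self (by norm_num),
    padicValNat.eq_zero_of_not_dvd (by omega : ¬ 2 ∣ c)]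

theorem w_one_of_three_mod_four (hq3 : 3 ≤ q) (h : q % 4 = 3) :
    padicValNat 2 (q - 1) = 1 ∧ 3 ≤ padicValNat 2 (q ^ 2 - 1) := by
  have : Fact (Nat.Prime 2) := ⟨Nat.prime_two⟩
  obtain ⟨c, hc⟩ : ∃ c, q - 1 = 2 * c := ⟨(q - 1) / 2, by omega⟩
  have h0 : padicValNat 2 (q - 1) = 1 := by
    rw [hc, padicValNat.mul (by norm_num) (by omega), padicValNat.self (by norm_num),
      padicValNat.eq_zero_of_not_dvd (by omega : ¬ 2 ∣ c)]
  refine ⟨h0, ?_⟩
  have h1 : q ^ 2 - 1 = (q - 1) * (q + 1) := by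
    rw [mul_comm, ← Nat.sq_sub_sq, one_pow]
  rw [h1, padicValNat.mul (by omega) (by omega), h0]
  have : 2 ≤ padicValNat 2 (q + 1) := (padicValNat_dvd_iff_le (by omega)).1 (by omega)
  omega

theorem V_succ (q n : ℕ) : V q (n + 1) = V q n + padicValNat 2 (q ^ (n + 1) - 1) :=
  Finset.sum_range_succ _ _

theorem val_factorial_succ (m : ℕ) :
    padicValNat 2 (m + 1).factorial = padicValNat 2 (m + 1) + padicValNat 2 m.factorial := by
  have : Fact (Nat.Prime 2) := ⟨Nat.prime_two⟩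
  rw [Nat.factorial_succ, padicValNat.mul (by omega) (Nat.factorial_ne_zero m)]

/-- The case `q ≡ 1 (mod 4)`. -/
theorem V_one (hq3 : 3 ≤ q) (h : q % 4 = 1) (n : ℕ) :
    V q n = n * padicValNat 2 (q - 1) + padicValNat 2 n.factorial := by
  have : Fact (Nat.Prime 2) := ⟨Nat.prime_two⟩
  have hq : Odd q := Nat.odd_iff.2 (by omega)
  induction n with
  | zero => simp [V]
  | succ n ih =>
    rw [V_succ, ih, val_factorial_succ]
    rcases Nat.even_or_odd (n + 1) with ⟨m, hm⟩ | ho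
    · rw [hm, ← two_mul, w_even hq hq3 (by omega), w_one_of_one_mod_four hq3 h,
        padicValNat.mul (by norm_num) (by omega), padicValNat.self (by norm_num)]
      rw [← two_mul] at hm
      rw [← hm]
      ring
    · rw [w_odd hq hq3 ho, padicValNat.eq_zero_of_not_dvd
        (Nat.two_dvd_ne_zero.2 (Nat.odd_iff.1 ho))]
      ring

theorem V_two_mul_succ (hq3 : 3 ≤ q) (h : q % 4 = 3) (m : ℕ) : V q (2 * m + 1) = V q (2 * m) + 1 := by
  rw [V_succ, w_odd (Nat.odd_iff.2 (by omega)) hq3 ⟨m, rfl⟩, (w_one_of_three_mod_four hq3 h).1]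

/-- The case `q ≡ 3 (mod 4)`, even degree. -/
theorem V_three (hq3 : 3 ≤ q) (h : q % 4 = 3) (m : ℕ) :
    V q (2 * m) = m * V q 2 + padicValNat 2 m.factorial := by
  have : Fact (Nat.Prime 2) := ⟨Nat.prime_two⟩
  have hq : Odd q := Nat.odd_iff.2 (by omega)
  have h2 : V q 2 = 1 + padicValNat 2 (q ^ 2 - 1) := by
    simp [V, Finset.sum_range_succ, (w_one_of_three_mod_four hq3 h).1]
  induction m with
  | zero => simp [V]
  | succ m ih =>
    rw [show 2 * (m + 1) = 2 * m + 1 + 1 by ring, V_succ, V_two_mul_succ hq3 h, ih,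
      show 2 * m + 1 + 1 = 2 * (m + 1) by ring, w_even hq hq3 (by omega), val_factorial_succ, h2]
    ring

/-- For `q ≡ 3 (mod 4)` a monomial block of size at least two costs. -/
theorem V_excess (hq3 : 3 ≤ q) (h : q % 4 = 3) {a k : ℕ} (hk : 2 ≤ k) :
    k + padicValNat 2 k.factorial + V q a < V q (a + k) := by
  have : Fact (Nat.Prime 2) := ⟨Nat.prime_two⟩
  have hq : Odd q := Nat.odd_iff.2 (by omega)
  have hw : ∀ i, 0 < i → 1 + padicValNat 2 i + (if Even i then 1 else 0) ≤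
      padicValNat 2 (q ^ i - 1) := by
    intro i hi
    rcases Nat.even_or_odd i with ⟨m, rfl⟩ | ho
    · rw [if_pos ⟨m, rfl⟩, ← two_mul, w_even hq hq3 (by omega),
        padicValNat.mul (by norm_num) (by omega), padicValNat.self (by norm_num)]
      have := (w_one_of_three_mod_four hq3 h).2
      omega
    · rw [if_neg (Nat.not_even_iff_odd.2 ho), w_odd hq hq3 ho,
        padicValNat.eq_zero_of_not_dvd (Nat.two_dvd_ne_zero.2 (Nat.odd_iff.1 ho)),
        (w_one_of_three_mod_four hq3 h).1]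
  rw [V, V, Finset.sum_range_add]
  have hasc : ∀ k, ∑ j ∈ Finset.range k, padicValNat 2 (a + j + 1) =
      padicValNat 2 ((a + 1).ascFactorial k) := by
    intro k
    induction k with
    | zero => simp
    | succ k ih =>
      rw [Finset.sum_range_succ, ih, Nat.ascFactorial_succ,
        padicValNat.mul (by omega) (Nat.ascFactorial_pos _ _).ne', add_comm,
        show a + k + 1 = a + 1 + k by omega]
  have hle : padicValNat 2 k.factorial ≤ padicValNat 2 ((a + 1).ascFactorial k) :=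
    (padicValNat_dvd_iff_le (Nat.ascFactorial_pos _ _).ne').1
      (pow_padicValNat_dvd.trans (Nat.factorial_dvd_ascFactorial _ _))
  have hsum := Finset.sum_le_sum (s := Finset.range k) fun j _ => hw (a + j + 1) (by omega)
  rw [Finset.sum_add_distrib, Finset.sum_add_distrib, hasc, Finset.sum_const, Finset.card_range,
    smul_eq_mul, mul_one] at hsum
  have hone : 1 ≤ ∑ j ∈ Finset.range k, (if Even (a + j + 1) then 1 else 0 : ℕ) := by
    refine le_trans ?_ (Finset.single_le_sum (fun _ _ => Nat.zero_le _)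
      (Finset.mem_range.2 (show (if Even (a + 1) then 0 else 1) < k by split <;> omega)))
    by_cases he : Even (a + 1)
    · simp [he]
    · rw [if_neg he, if_pos]
      exact Nat.even_add_one.2 he
  omega

end Cfsg.Agent.Lib.GLNormalRank
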