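import Cfsg.Prelude.Def_Transfer
import Cfsg.Agent.Lib.SLOddIndex.Blocks
import Cfsg.Agent.Lib.SignDiag.Basic
import Cfsg.Agent.Lib.GLNormalRank.Val
import Mathlib

/-!
The block monomial group `(GL β ≀ Perm κ) × GL γ` inside a general linear group.
-/

set_option autoImplicit false

open Matrix

namespace Cfsg.Agent.Lib.GLNormalRank

open Cfsg.Agent.Lib.SLOddIndex

variable {F : Type*} [Field F]
variable {κ β γ : Type*} [Fintype κ] [DecidableEq κ] [Fintype β] [DecidableEq β] [Fintype γ]
  [DecidableEq γ]

/-- The permutation action on the base group. -/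
def act : Equiv.Perm κ →* MulAut (κ → GL β F) where
  toFun σ :=
    { toFun := fun g i => g (σ.symm i)
      invFun := fun g i => g (σ i)
      left_inv := fun g => funext fun i => by simp
      right_inv := fun g => funext fun i => by simp
      map_mul' := fun g h => rfl }
  map_one' := rfl
  map_mul' σ τ := rfl

omit [Fintype κ] [DecidableEq κ] in
theorem act_apply (σ : Equiv.Perm κ) (g : κ → GL β F) (i : κ) :
    (act σ : MulAut (κ → GL β F)) g i = g (σ.symm i) := rfl

/-- The wreath product. -/
abbrev Wr (F : Type*) [Field F] (κ β : Type*) [Fintype κ] [DecidableEq κ] [Fintype β] [DecidableEq β] :=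
  (κ → GL β F) ⋊[(act : Equiv.Perm κ →* MulAut (κ → GL β F))] Equiv.Perm κ

instance finite_wr [Finite F] : Finite (Wr F κ β) := Finite.of_equiv _ SemidirectProduct.equivProd.symm

/-- The block matrix of an element of the wreath product. -/
def blk (x : Wr F κ β) : Matrix (κ × β) (κ × β) F :=
  Matrix.of fun p r => if p.1 = x.right r.1 then (x.left p.1 : Matrix β β F) p.2 r.2 else 0

theorem blk_one : blk (1 : Wr F κ β) = 1 := by
  ext ⟨i, a⟩ ⟨j, c⟩
  by_cases h : i = j
  · subst h
    simp [blk, Matrix.one_apply]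
  · simp [blk, Matrix.one_apply, h]

theorem blk_mul (x y : Wr F κ β) : blk (x * y) = blk x * blk y := by
  ext ⟨i, a⟩ ⟨j, c⟩
  simp only [blk, Matrix.mul_apply, Matrix.of_apply, SemidirectProduct.mul_left,
    SemidirectProduct.mul_right, Fintype.sum_prod_type]
  rw [Finset.sum_eq_single (y.right j)]
  · by_cases h : i = x.right (y.right j)
    · simp [h, act_apply, Matrix.mul_apply]
    · simp [h]
  · intro l _ hl
    refine Finset.sum_eq_zero fun r _ => ?_
    simp [hl]
  · simp


/-- The embedding of the model group. -/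
def emb : Wr F κ β × GL γ F →* GL ((κ × β) ⊕ γ) F :=
  MonoidHom.toHomUnits
    { toFun := fun x => Matrix.fromBlocks (blk x.1) 0 0 (x.2 : Matrix γ γ F)
      map_one' := by simp [blk_one, Matrix.fromBlocks_one]
      map_mul' := fun x y => by simp [blk_mul, Matrix.fromBlocks_multiply] }

theorem emb_val (x : Wr F κ β × GL γ F) :
    ((emb x : GL ((κ × β) ⊕ γ) F) : Matrix ((κ × β) ⊕ γ) ((κ × β) ⊕ γ) F) =
      Matrix.fromBlocks (blk x.1) 0 0 (x.2 : Matrix γ γ F) := rfl

theorem emb_injective [Nonempty β] : Function.Injective (emb : Wr F κ β × GL γ F →* _) := by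
  refine (injective_iff_map_eq_one _).2 fun x hx => ?_
  have h := congrArg Units.val hx
  rw [emb_val, Units.val_one, ← Matrix.fromBlocks_one] at h
  obtain ⟨h1, -, -, h2⟩ := Matrix.fromBlocks_inj.1 h
  refine Prod.ext ?_ (Units.ext h2)
  have hσ : x.1.right = 1 := by
    refine Equiv.ext fun j => ?_
    by_contra hne
    obtain ⟨a⟩ : Nonempty β := inferInstance
    have := congrFun (congrFun h1 (j, a)) (j, a)
    rw [blk, Matrix.of_apply, if_neg (fun hh => hne (by simpa using hh.symm)), Matrix.one_apply_eq] at this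
    exact zero_ne_one this
  refine SemidirectProduct.ext (funext fun i => Units.ext (Matrix.ext fun a c => ?_)) hσ
  have := congrFun (congrFun h1 (i, a)) (i, c)
  simpa [blk, hσ, Matrix.one_apply] using this

/-- The order of the model group. -/
theorem card_model : Nat.card (Wr F κ β × GL γ F) =
    Nat.card (GL β F) ^ Fintype.card κ * (Fintype.card κ).factorial * Nat.card (GL γ F) := by
  rw [Nat.card_prod, SemidirectProduct.card, Nat.card_fun, Nat.card_perm, Nat.card_eq_fintype_card (α := κ)]

theorem val_card_model [Fintype F] (hodd : Fintype.card F % 2 = 1) :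
    padicValNat 2 (Nat.card (Wr F κ β × GL γ F)) =
      Fintype.card κ * V (Fintype.card F) (Fintype.card β) +
        padicValNat 2 (Fintype.card κ).factorial + V (Fintype.card F) (Fintype.card γ) := by
  have : Fact (Nat.Prime 2) := ⟨Nat.prime_two⟩
  have hq3 : 3 ≤ Fintype.card F := by have := Fintype.one_lt_card (α := F); omega
  rw [card_model, padicValNat.mul (mul_ne_zero (pow_ne_zero _ Nat.card_pos.ne')
    (Nat.factorial_ne_zero _)) Nat.card_pos.ne', padicValNat.mul (pow_ne_zero _ Nat.card_pos.ne')
    (Nat.factorial_ne_zero _), padicValNat.pow, card_GL_eq, card_GL_eq,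
    V_eq (Nat.odd_iff.2 hodd) hq3, V_eq (Nat.odd_iff.2 hodd) hq3]

/-- The signs in the model group. -/
def signs [Subsingleton γ] : (κ → ℤˣ) × (γ → ℤˣ) →* Wr F κ β × GL γ F :=
  MonoidHom.prodMap
    ((SemidirectProduct.inl : (κ → GL β F) →* Wr F κ β).comp
      (MonoidHom.pi fun i => ((GeneralLinearGroup.scalar β).comp
        (Units.map (Int.castRingHom F).toMonoidHom)).comp (Pi.evalMonoidHom (fun _ : κ => ℤˣ) i)))
    (MonoidHom.toHomUnits
      { toFun := fun y : γ → ℤˣ => Matrix.diagonal fun i => ((y i : ℤ) : F)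
        map_one' := by simp
        map_mul' := fun y z => by simp [Matrix.diagonal_mul_diagonal] })

theorem signs_normal [Subsingleton γ] :
    (signs : (κ → ℤˣ) × (γ → ℤˣ) →* Wr F κ β × GL γ F).range.Normal := by
  refine ⟨?_⟩
  rintro _ ⟨⟨x, y⟩, rfl⟩ ⟨g, C⟩
  refine ⟨(fun i => x (g.right.symm i), y), Prod.ext ?_ ?_⟩
  · have hc : ∀ (i : κ) (u : ℤˣ), g.left i *
        GeneralLinearGroup.scalar β (Units.map (Int.castRingHom F).toMonoidHom u) =
        GeneralLinearGroup.scalar β (Units.map (Int.castRingHom F).toMonoidHom u) * g.left i := by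
      intro i u
      apply Units.ext
      simp only [Units.val_mul, GeneralLinearGroup.coe_scalar]
      exact (Matrix.scalar_commute _ (fun r => Commute.all _ r) _).symm
    refine SemidirectProduct.ext (funext fun i => ?_) (by simp [signs])
    simp [signs, act_apply]
    exact (mul_inv_eq_iff_eq_mul.2 (hc i _)).symm
  · apply Units.ext
    have hd : (C : Matrix γ γ F) * (Matrix.diagonal fun i => ((y i : ℤ) : F)) =
        (Matrix.diagonal fun i => ((y i : ℤ) : F)) * (C : Matrix γ γ F) := by
      ext i j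
      rw [Matrix.mul_diagonal, Matrix.diagonal_mul, Subsingleton.elim i j, mul_comm]
    change (Matrix.diagonal fun i => ((y i : ℤ) : F)) = (C : Matrix γ γ F) *
      (Matrix.diagonal fun i => ((y i : ℤ) : F)) * (C⁻¹ : GL γ F).val
    rw [hd, Matrix.mul_assoc, ← Units.val_mul, mul_inv_cancel, Units.val_one, Matrix.mul_one]

theorem signs_injective [Subsingleton γ] [Nonempty β] (h2 : (2 : F) ≠ 0) :
    Function.Injective (signs : (κ → ℤˣ) × (γ → ℤˣ) →* Wr F κ β × GL γ F) := by
  have hu : ∀ u : ℤˣ, ((u : ℤ) : F) = 1 → u = 1 := by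
    intro u hu
    rcases Int.units_eq_one_or u with rfl | rfl
    · rfl
    · exact absurd (by simp at hu; linear_combination -hu) h2
  refine (injective_iff_map_eq_one _).2 fun x hx => ?_
  obtain ⟨a⟩ : Nonempty β := inferInstance
  refine Prod.ext (funext fun i => hu _ ?_) (funext fun i => hu _ ?_)
  · have h : (Matrix.scalar β ((x.1 i : ℤ) : F) : Matrix β β F) a a = (1 : Matrix β β F) a a :=
      congrArg (fun z : Wr F κ β × GL γ F => (z.1.left i : Matrix β β F) a a) hx
    rwa [Matrix.scalar_apply, Matrix.diagonal_apply_eq, Matrix.one_apply_eq] at h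
  · have h : (Matrix.diagonal fun i => ((x.2 i : ℤ) : F)) i i = (1 : Matrix γ γ F) i i :=
      congrArg (fun z : Wr F κ β × GL γ F => (z.2 : Matrix γ γ F) i i) hx
    simpa using h

end Cfsg.Agent.Lib.GLNormalRank
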